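import Cfsg.Agent.H547.SelfCent.Base
import Cfsg.Agent.BpSpor.MBigCo
import Cfsg.Prelude.Def_Spor_Conway

/-!
# The elements of order 11 of `McL` and `HS` are self-centralizing (helper547)

`|C_{Co0}(x)| ≤ 264` for `x` of order 11 (helper12), `-1` is not in the group, no element of order 22, Sylow.
-/

set_option autoImplicit false

namespace Cfsg.Agent.H547.SelfCent.McLHS

open Subgroup Cfsg Cfsg.Agent.H393.Iso
open Cfsg.Agent.SporadicA.Co0Mono Cfsg.Agent.SporadicA.Co1Simple

theorem card_co0 : Nat.card Co0 = 8315553613086720000 := Cfsg.Agent.S0397.result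

theorem finite_co0 : Finite Co0 := Nat.finite_of_card_ne_zero (by rw [card_co0]; norm_num)

theorem cent_le [Finite Co0] {x : Co0} (hx : orderOf x = 11) : Nat.card (centralizer ({x} : Set Co0)) ≤ 264 := by
  rw [card_cent_eq (by norm_num) (by rw [card_co0]; norm_num) hx BpSpor.MBigCo.orderOf_r11]
  exact BpSpor.MBigCo.card_cent_r11

/-- a group embedded in `Co0` without a central element `z` in its image -/
theorem of_injective {G : Type*} [Group G] [Finite G] (f : G →* Co0) (hf : Function.Injective f)
    (z : Co0) (hz : z ∈ center Co0) (hzf : z ∉ f.range) {x : G} (hx : orderOf x = 11) :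
    2 * Nat.card (centralizer ({x} : Set G)) ≤ 264 := by
  have := finite_co0
  have hfx : orderOf (f x) = 11 := by rw [orderOf_injective f hf, hx]
  refine le_trans ?_ (cent_le hfx)
  let φ : Bool × centralizer ({x} : Set G) → centralizer ({f x} : Set Co0) := fun p =>
    ⟨(if p.1 then z else 1) * f p.2, by
      rw [mem_centralizer_singleton_iff]
      have h1 : f p.2 * f x = f x * f p.2 := by
        rw [← map_mul, mem_centralizer_singleton_iff.1 p.2.2, map_mul]
      split_ifs
      · rw [mul_assoc, h1, ← mul_assoc, ← mul_assoc, mem_center_iff.1 hz (f x)]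
      · rw [one_mul, h1]⟩
  have hφ : Function.Injective φ := by
    rintro ⟨a, c⟩ ⟨b, d⟩ h
    have h1 : (if a then z else 1) * f c = (if b then z else 1) * f d := congrArg Subtype.val h
    have key : ∀ c d : G, z * f c = f d → False := by
      intro c d h2
      apply hzf
      refine ⟨d * c⁻¹, ?_⟩
      rw [map_mul, map_inv, ← h2, mul_inv_cancel_right]
    cases a <;> cases b
    · simp only [Bool.false_eq_true, if_false, one_mul] at h1
      rw [Subtype.ext (hf h1)]
    · simp only [Bool.false_eq_true, if_false, one_mul, if_true] at h1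
      exact (key _ _ h1.symm).elim
    · simp only [Bool.false_eq_true, if_false, one_mul, if_true] at h1
      exact (key _ _ h1).elim
    · simp only [if_true] at h1
      rw [Subtype.ext (hf (mul_left_cancel h1))]
  have h2 := Nat.card_le_card_of_injective φ hφ
  rwa [Nat.card_prod, Nat.card_eq_fintype_card, Fintype.card_bool] at h2

/-- the stabilizer of a nonzero vector does not contain `-1` -/
theorem neg_not_mem {v : leechLattice} (hv : v ≠ 0) {K : Subgroup (Equiv.Perm leechLattice)} (hK : K ≤ Co0)
    (hKv : ∀ k ∈ K, k v = v) : signCo0 allOne ∉ (Subgroup.inclusion hK).range := by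
  rintro ⟨⟨k, hk⟩, h⟩
  have h1 : signCo0 allOne • v = v := by
    rw [← h]
    exact hKv k hk
  rw [allOne_smul] at h1
  apply hv
  apply Subtype.ext
  funext i
  have h2 := congrArg (fun w : leechLattice => (w : GolayPt → ℤ) i) h1
  have h3 : -((v : GolayPt → ℤ) i) = (v : GolayPt → ℤ) i := h2
  have h4 : ((0 : leechLattice) : GolayPt → ℤ) i = 0 := rfl
  rw [h4]
  omega

theorem leechV_ne : Spor.leechV ≠ 0 := by
  intro h
  have h2 := congrArg (fun w : leechLattice => (w : GolayPt → ℤ) none) h
  have h3 : (Spor.leechV : GolayPt → ℤ) none = -5 := by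
    show Spor.vecV none = -5
    rfl
  have h4 : ((0 : leechLattice) : GolayPt → ℤ) none = 0 := rfl
  have h5 : (Spor.leechV : GolayPt → ℤ) none = ((0 : leechLattice) : GolayPt → ℤ) none := h2
  rw [h3, h4] at h5
  norm_num at h5

theorem list_of {c : ℕ} (h0 : c ≠ 0) (h : 2 * (11 * c) ≤ 264) (h2 : ¬ 2 ∣ 11 * c) :
    c ∈ [1, 3, 5, 7, 9, 11] := by
  have h1 : c ≤ 12 := by omega
  interval_cases c <;> simp_all

/-- a simple group embedded in `Co0`, fixing a nonzero vector, of order `N` with the numeric check -/
theorem main {G : Type*} [Group G] [Finite G] [IsSimpleGroup G] {K : Subgroup (Equiv.Perm leechLattice)} (e : G ≃* K)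
    (hK : K ≤ Spor.Co3) (hna : NA 11 G) {N : ℕ} (hN : Nat.card G = N) (hsq : ¬ 11 * 11 ∣ N) (hne : N ≠ 11)
    (hchk : chkL N 11 1 [1, 3, 5, 7, 9, 11] = true) {x : G} (hx : orderOf x = 11) :
    Nat.card (centralizer ({x} : Set G)) = 11 := by
  have hle : K ≤ Co0 := hK.trans inf_le_left
  refine card_of_chkL (by norm_num) hx hN hsq hne (fun c hc => ?_) (fun _ _ _ => one_dvd _) hchk
  have h1 := of_injective ((Subgroup.inclusion hle).comp e.toMonoidHom)
    ((Subgroup.inclusion_injective hle).comp e.injective) (signCo0 allOne) allOne_mem_center (by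
      rintro ⟨g, hg⟩
      refine neg_not_mem (v := Spor.leechV) leechV_ne hle (fun k hk => (hK hk).2) ⟨e g, hg⟩) hx
  rw [hc] at h1
  have h2 := odd_cent hx hna
  rw [hc] at h2
  refine list_of ?_ h1 h2
  rintro rfl
  exact (Nat.card_pos (α := centralizer ({x} : Set G))).ne' (by rw [hc, mul_zero])

/-- **`McL`** -/
theorem mcl {G : Type*} [Group G] [Finite G] [IsSimpleGroup G] (h : Spor.IsoMcL G) (hna : NA 11 G)
    (hN : Nat.card G = 898128000) {x : G} (hx : orderOf x = 11) : Nat.card (centralizer ({x} : Set G)) = 11 := by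
  obtain ⟨e⟩ := h
  exact main e inf_le_left hna hN (by norm_num) (by norm_num) (by decide +kernel) hx

/-- **`HS`** -/
theorem hs {G : Type*} [Group G] [Finite G] [IsSimpleGroup G] (h : Spor.IsoHS G) (hna : NA 11 G)
    (hN : Nat.card G = 44352000) {x : G} (hx : orderOf x = 11) : Nat.card (centralizer ({x} : Set G)) = 11 := by
  obtain ⟨e⟩ := h
  exact main e inf_le_left hna hN (by norm_num) (by norm_num) (by decide +kernel) hx

end Cfsg.Agent.H547.SelfCent.McLHS
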