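import Mathlib
import Cfsg.Agent.H393.Iso.Base

/-!
# Self-centralizing subgroups of prime order in simple groups: tools (helper547)

* `arith` : Sylow arithmetic for a subgroup of prime order which is a Sylow subgroup, with the order `e` of the group
  induced on it;
* `e_ne_one` : `e ≠ 1` in a simple group (Burnside);
* `card_of_exp`, `card_of_odd` : `|C(x)| = r`.
-/

set_option autoImplicit false

namespace Cfsg.Agent.H547.SelfCent

open Subgroup Cfsg.Agent.H393.Iso
open scoped Pointwise

section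

variable {G : Type*} [Group G]

theorem cent_le_norm (x : G) : centralizer ({x} : Set G) ≤ normalizer (zpowers x : Set G) := by
  intro g hg
  rw [mem_centralizer_singleton_iff] at hg
  rw [Subgroup.mem_normalizer_iff]
  intro h
  have hgc : Commute g x := hg
  have key : ∀ k : ℤ, g * x ^ k * g⁻¹ = x ^ k := fun k => by
    rw [(hgc.zpow_right k).eq, mul_inv_cancel_right]
  constructor
  · intro hh
    obtain ⟨k, rfl⟩ := mem_zpowers_iff.1 hh
    rw [key]
    exact hh
  · intro hh
    obtain ⟨k, hk⟩ := mem_zpowers_iff.1 hh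
    have h1 : h = x ^ k := by
      rw [← key k] at hk
      have h2 : g * h * g⁻¹ = g * x ^ k * g⁻¹ := by rw [hk]
      simpa using h2
    rw [h1]
    exact zpow_mem (mem_zpowers x) k

theorem conj_zpow {g x : G} {k : ℤ} (h : g * x * g⁻¹ = x ^ k) (j : ℤ) : g * x ^ j * g⁻¹ = (x ^ j) ^ k := by
  have h1 : g * x ^ j * g⁻¹ = (g * x * g⁻¹) ^ j := map_zpow (MulAut.conj g) x j
  rw [h1, h, ← zpow_mul, ← zpow_mul, mul_comm]

theorem mem_norm [Finite G] {g x : G} {k : ℕ} (h : g * x * g⁻¹ = x ^ k) : g ∈ normalizer (zpowers x : Set G) := by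
  have hle : (zpowers x).map (MulAut.conj g).toMonoidHom ≤ zpowers x := by
    rw [MonoidHom.map_zpowers, zpowers_le]
    change g * x * g⁻¹ ∈ zpowers x
    rw [h]
    exact pow_mem (mem_zpowers x) k
  have hcard : Nat.card ((zpowers x).map (MulAut.conj g).toMonoidHom) = Nat.card (zpowers x) :=
    Nat.card_congr ((zpowers x).equivMapOfInjective _ (MulAut.conj g).injective).symm.toEquiv
  have heq : (zpowers x).map (MulAut.conj g).toMonoidHom = zpowers x :=
    Subgroup.eq_of_le_of_card_ge hle hcard.symm.le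
  rw [Subgroup.mem_normalizer_iff]
  intro y
  constructor
  · intro hy
    rw [← heq]
    exact ⟨y, hy, rfl⟩
  · intro hy
    rw [← heq] at hy
    obtain ⟨z, hz, hzy⟩ := hy
    have : z = y := (MulAut.conj g).injective hzy
    rwa [← this]

/-- Sylow arithmetic -/
theorem arith [Finite G] {x : G} {r : ℕ} (hr : r.Prime) (hx : orderOf x = r) (hsq : ¬ r * r ∣ Nat.card G) :
    ∃ e, e ∣ r - 1 ∧ Nat.card (centralizer ({x} : Set G)) * e ∣ Nat.card G ∧
      Nat.card G / (Nat.card (centralizer ({x} : Set G)) * e) % r = 1 % r ∧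
      Nat.card (normalizer (zpowers x : Set G)) = Nat.card (centralizer ({x} : Set G)) * e ∧
      ∀ (g : G) (k q a : ℕ), q.Prime → g * x * g⁻¹ = x ^ k → k ^ (q ^ (a + 1)) % r = 1 → k ^ (q ^ a) % r ≠ 1 →
        q ^ (a + 1) ∣ e := by
  classical
  have : Fact r.Prime := ⟨hr⟩
  have hcz : Nat.card (zpowers x) = r := by rw [Nat.card_zpowers, hx]
  have hidx : ¬ r ∣ (zpowers x).index := by
    intro h
    apply hsq
    rw [← Subgroup.card_mul_index (zpowers x), hcz]
    exact Nat.mul_dvd_mul_left r h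
  have hP : IsPGroup r (zpowers x) := IsPGroup.of_card (n := 1) (by rw [hcz, pow_one])
  let P : Sylow r G := hP.toSylow hidx
  let N := normalizer (zpowers x : Set G)
  let C := centralizer ({x} : Set G)
  have hCN : C ≤ N := cent_le_norm x
  have hNn : ((zpowers x).subgroupOf N).Normal := by
    have := Subgroup.normal_in_normalizer (H := zpowers x)
    exact this
  let Z := (zpowers x).subgroupOf N
  let φ : N →* MulAut Z := MulAut.conjNormal
  have hZc : Nat.card Z = r := by
    rw [Nat.card_congr (Subgroup.subgroupOfEquivOfLe (Subgroup.le_normalizer)).toEquiv, hcz]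
  have hker : ∀ g : N, φ g = 1 ↔ (g : G) * x = x * g := by
    intro g
    constructor
    · intro h
      have h1 : ((φ g ⟨⟨x, Subgroup.le_normalizer (mem_zpowers x)⟩, mem_zpowers x⟩ : Z) : N) =
          (⟨x, Subgroup.le_normalizer (mem_zpowers x)⟩ : N) := by rw [h]; rfl
      have h2 : (g : G) * x * (g : G)⁻¹ = x := congrArg Subtype.val h1
      calc (g : G) * x = g * x * (g : G)⁻¹ * g := by group
        _ = x * g := by rw [h2]
    · intro h
      apply MulEquiv.ext
      rintro ⟨⟨y, hyN⟩, hy⟩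
      apply Subtype.ext
      apply Subtype.ext
      have hy' : y ∈ zpowers x := hy
      obtain ⟨k, rfl⟩ := mem_zpowers_iff.1 hy'
      change (g : G) * x ^ k * (g : G)⁻¹ = x ^ k
      have hgc : Commute (g : G) x := h
      rw [(hgc.zpow_right k).eq, mul_inv_cancel_right]
  have hker' : φ.ker = C.subgroupOf N := by
    ext g
    rw [MonoidHom.mem_ker, mem_subgroupOf, mem_centralizer_singleton_iff, hker]
  have hcyc : IsCyclic Z := isCyclic_of_prime_card hZc
  have hrange : Nat.card φ.range ∣ r - 1 := by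
    have h4 : Nat.card φ.range ∣ Nat.card (MulAut Z) := Subgroup.card_subgroup_dvd_card _
    rwa [IsCyclic.card_mulAut, hZc, Nat.totient_prime hr] at h4
  have hNcard : Nat.card N = Nat.card C * Nat.card φ.range := by
    rw [← Nat.card_congr (Subgroup.subgroupOfEquivOfLe hCN).toEquiv, ← hker']
    have h1 := Subgroup.card_mul_index φ.ker
    rw [Subgroup.index_ker] at h1
    exact h1.symm
  refine ⟨Nat.card φ.range, hrange, ?_, ?_, hNcard, ?_⟩
  · rw [← hNcard]
    exact Subgroup.card_subgroup_dvd_card N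
  · rw [← hNcard]
    have h1 : Nat.card (Sylow r G) ≡ 1 [MOD r] := card_sylow_modEq_one r G
    have h2 : Nat.card (Sylow r G) = N.index := by
      rw [Sylow.card_eq_index_normalizer P]
      rfl
    rw [h2] at h1
    have h3 : Nat.card G / Nat.card N = N.index := by
      rw [← Subgroup.card_mul_index N]
      exact Nat.mul_div_cancel_left _ Nat.card_pos
    rw [h3]
    exact h1
  · intro g k q a hq hg h1 h0
    have hqf : Fact q.Prime := ⟨hq⟩
    have hgN : g ∈ N := mem_norm hg
    -- powers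
    have hpow : ∀ n : ℕ, g ^ n * x * (g ^ n)⁻¹ = x ^ (k ^ n) := by
      intro n
      induction n with
      | zero => simp
      | succ n ih =>
        have h2 := conj_zpow (g := g) (x := x) (k := (k : ℤ)) (by rw [zpow_natCast]; exact hg) ((k ^ n : ℕ) : ℤ)
        rw [zpow_natCast, zpow_natCast, ← pow_mul] at h2
        rw [pow_succ', pow_succ]
        calc g * g ^ n * x * (g * g ^ n)⁻¹ = g * (g ^ n * x * (g ^ n)⁻¹) * g⁻¹ := by group
          _ = g * x ^ k ^ n * g⁻¹ := by rw [ih]
          _ = _ := h2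
    have hφ : ∀ n : ℕ, φ ⟨g, hgN⟩ ^ n = 1 ↔ k ^ n % r = 1 % r := by
      intro n
      rw [← map_pow, hker]
      have h3 : ((⟨g, hgN⟩ ^ n : N) : G) = g ^ n := rfl
      rw [h3]
      have h4 : g ^ n * x = x * g ^ n ↔ x ^ (k ^ n) = x := by
        rw [← hpow n]
        constructor
        · intro h; rw [h, mul_inv_cancel_right]
        · intro h
          calc g ^ n * x = g ^ n * x * (g ^ n)⁻¹ * g ^ n := by group
            _ = x * g ^ n := by rw [h]
      rw [h4]
      nth_rw 2 [← pow_one x]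
      rw [pow_inj_mod, hx]
    have h1' : φ ⟨g, hgN⟩ ^ q ^ (a + 1) = 1 := by
      rw [hφ, h1, Nat.mod_eq_of_lt hr.one_lt]
    have h0' : ¬ φ ⟨g, hgN⟩ ^ q ^ a = 1 := by
      rw [hφ, Nat.mod_eq_of_lt hr.one_lt]
      exact h0
    have h5 := orderOf_eq_prime_pow h0' h1'
    rw [← h5]
    have h6 : φ ⟨g, hgN⟩ ∈ φ.range := ⟨_, rfl⟩
    have h7 := orderOf_dvd_natCard (⟨φ ⟨g, hgN⟩, h6⟩ : φ.range)
    rwa [Subgroup.orderOf_mk] at h7

/-- Burnside -/
theorem not_norm_le [Finite G] [IsSimpleGroup G] {x : G} {r : ℕ} (hr : r.Prime) (hx : orderOf x = r)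
    (hsq : ¬ r * r ∣ Nat.card G) (hne : Nat.card G ≠ r) :
    Nat.card (normalizer (zpowers x : Set G)) ≠ Nat.card (centralizer ({x} : Set G)) := by
  classical
  intro hcard
  have : Fact r.Prime := ⟨hr⟩
  have hcz : Nat.card (zpowers x) = r := by rw [Nat.card_zpowers, hx]
  have hidx : ¬ r ∣ (zpowers x).index := by
    intro h
    apply hsq
    rw [← Subgroup.card_mul_index (zpowers x), hcz]
    exact Nat.mul_dvd_mul_left r h
  have hP : IsPGroup r (zpowers x) := IsPGroup.of_card (n := 1) (by rw [hcz, pow_one])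
  let P : Sylow r G := hP.toSylow hidx
  have hPz : (P : Subgroup G) = zpowers x := rfl
  have heq : centralizer ({x} : Set G) = normalizer (zpowers x : Set G) :=
    Subgroup.eq_of_le_of_card_ge (cent_le_norm x) hcard.le
  have hle : normalizer ((P : Subgroup G) : Set G) ≤ centralizer ((P : Subgroup G) : Set G) := by
    rw [hPz, ← heq]
    intro g hg
    rw [mem_centralizer_iff]
    intro y hy
    obtain ⟨k, rfl⟩ := mem_zpowers_iff.1 hy
    have hgx : Commute g x := mem_centralizer_singleton_iff.1 hg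
    exact (hgx.zpow_right k).eq.symm
  have hc := MonoidHom.ker_transferSylow_isComplement' P hle
  rcases (inferInstance : IsSimpleGroup G).eq_bot_or_eq_top_of_normal (MonoidHom.transferSylow P hle).ker inferInstance
    with h | h
  · rw [h] at hc
    have h1 := hc.card_mul_card
    rw [Subgroup.card_bot, one_mul, hPz, hcz] at h1
    exact hne h1.symm
  · rw [h] at hc
    have h1 := hc.card_mul_card
    rw [Subgroup.card_top, hPz, hcz] at h1
    have h2 : 0 < Nat.card G := Nat.card_pos
    have h3 := hr.two_le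
    nlinarith

/-- `|C(x)| = r` from the absence of elements of order `2r` and a bound for the exponent -/
theorem card_of_exp [Finite G] {x : G} {r : ℕ} (hr : r.Prime) (hx : orderOf x = r)
    (hsq : ¬ r * r ∣ Nat.card G) (hna : NA r G) {a : ℕ} (h : ∀ g : G, g * x = x * g → g ^ (2 ^ a * r) = 1) :
    Nat.card (centralizer ({x} : Set G)) = r := by
  classical
  have : Fact r.Prime := ⟨hr⟩
  have hx' : x ∈ centralizer ({x} : Set G) := mem_centralizer_singleton_iff.2 rfl
  have hodd : ¬ 2 ∣ Nat.card (centralizer ({x} : Set G)) := by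
    intro h2
    obtain ⟨t, ht⟩ := exists_prime_orderOf_dvd_card' 2 h2
    exact hna x t hx (by rw [Subgroup.orderOf_coe, ht]) (mem_centralizer_singleton_iff.1 t.2).symm
  have hp : IsPGroup r (centralizer ({x} : Set G)) := by
    intro g
    refine ⟨1, ?_⟩
    rw [pow_one]
    have h1 : (g : G) ^ (2 ^ a * r) = 1 := h g (mem_centralizer_singleton_iff.1 g.2)
    have h2 : (g ^ r) ^ (2 ^ a) = 1 := by
      apply Subtype.ext
      rw [← pow_mul, mul_comm]
      exact h1
    have h3 : orderOf (g ^ r) ∣ 2 ^ a := orderOf_dvd_of_pow_eq_one h2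
    have h4 : orderOf (g ^ r) ∣ Nat.card (centralizer ({x} : Set G)) := orderOf_dvd_natCard _
    obtain ⟨j, -, hj⟩ := (Nat.dvd_prime_pow Nat.prime_two).1 h3
    have hj0 : j = 0 := by
      by_contra hj0
      apply hodd
      rw [hj] at h4
      exact (dvd_pow_self 2 hj0).trans h4
    rw [hj0, pow_zero] at hj
    exact orderOf_eq_one_iff.1 hj
  obtain ⟨n, hn⟩ := IsPGroup.iff_card.1 hp
  have h1 : r ∣ Nat.card (centralizer ({x} : Set G)) := by
    have := orderOf_dvd_natCard (⟨x, hx'⟩ : centralizer ({x} : Set G))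
    rwa [Subgroup.orderOf_mk, hx] at this
  have hn1 : n ≤ 1 := by
    by_contra hn2
    apply hsq
    rw [← pow_two]
    exact (pow_dvd_pow r (by omega)).trans (hn ▸ Subgroup.card_subgroup_dvd_card _)
  have hn0 : n ≠ 0 := by
    rintro rfl
    rw [hn, pow_zero] at h1
    exact hr.one_lt.ne' (Nat.dvd_one.1 h1)
  rw [hn, show n = 1 by omega, pow_one]

theorem dvd_cent [Finite G] {x : G} {r : ℕ} (hx : orderOf x = r) :
    r ∣ Nat.card (centralizer ({x} : Set G)) := by
  have hx' : x ∈ centralizer ({x} : Set G) := mem_centralizer_singleton_iff.2 rfl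
  have := orderOf_dvd_natCard (⟨x, hx'⟩ : centralizer ({x} : Set G))
  rwa [Subgroup.orderOf_mk, hx] at this

theorem odd_cent [Finite G] {x : G} {r : ℕ} (hx : orderOf x = r) (hna : NA r G) :
    ¬ 2 ∣ Nat.card (centralizer ({x} : Set G)) := by
  intro h2
  have : Fact (Nat.Prime 2) := ⟨Nat.prime_two⟩
  obtain ⟨t, ht⟩ := exists_prime_orderOf_dvd_card' 2 h2
  exact hna x t hx (by rw [Subgroup.orderOf_coe, ht]) (mem_centralizer_singleton_iff.1 t.2).symm

/-- Sylow subgroups of prime order are conjugate: an element conjugating into powers -/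
theorem exists_conj [Finite G] {r : ℕ} (hr : r.Prime) (hsq : ¬ r * r ∣ Nat.card G) {x y : G} (hx : orderOf x = r)
    (hy : orderOf y = r) : ∃ g : G, g * y * g⁻¹ ∈ zpowers x ∧ x ∈ zpowers (g * y * g⁻¹) := by
  classical
  have : Fact r.Prime := ⟨hr⟩
  have key : ∀ z : G, orderOf z = r → ∃ P : Sylow r G, (P : Subgroup G) = zpowers z := by
    intro z hz
    have hcz : Nat.card (zpowers z) = r := by rw [Nat.card_zpowers, hz]
    have hidx : ¬ r ∣ (zpowers z).index := by
      intro h
      apply hsq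
      rw [← Subgroup.card_mul_index (zpowers z), hcz]
      exact Nat.mul_dvd_mul_left r h
    have hP : IsPGroup r (zpowers z) := IsPGroup.of_card (n := 1) (by rw [hcz, pow_one])
    exact ⟨hP.toSylow hidx, rfl⟩
  obtain ⟨P, hP⟩ := key x hx
  obtain ⟨Q, hQ⟩ := key y hy
  obtain ⟨g, hg⟩ := MulAction.exists_smul_eq G Q P
  have h1 : (MulAut.conj g • (Q : Subgroup G)) = P := by rw [← hg]; rfl
  have h2 : g * y * g⁻¹ ∈ zpowers x := by
    rw [← hP, ← h1, Subgroup.mem_pointwise_smul_iff_inv_smul_mem, hQ]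
    have : (MulAut.conj g)⁻¹ • (g * y * g⁻¹) = y := by
      rw [← map_inv, MulAut.smul_def, MulAut.conj_apply]
      group
    rw [this]
    exact mem_zpowers y
  refine ⟨g, h2, ?_⟩
  have ho : orderOf (g * y * g⁻¹) = r := by
    rw [← hy]
    exact orderOf_injective (MulAut.conj g).toMonoidHom (MulAut.conj g).injective y
  have heq : zpowers (g * y * g⁻¹) = zpowers x := by
    apply Subgroup.eq_of_le_of_card_ge (zpowers_le.2 h2)
    rw [Nat.card_zpowers, Nat.card_zpowers, ho, hx]
  rw [heq]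
  exact mem_zpowers x

theorem commute_of_mem {g x y : G} (h : Commute g y) (hx : x ∈ zpowers y) : Commute g x := by
  obtain ⟨k, rfl⟩ := mem_zpowers_iff.1 hx
  exact h.zpow_right k

/-- the property "every element commuting with `x` has `n`-th power 1" does not depend on the element of order `r` -/
theorem exp_conj [Finite G] {r : ℕ} (hr : r.Prime) (hsq : ¬ r * r ∣ Nat.card G) {x : G} (hx : orderOf x = r) {n : ℕ}
    (h : ∀ g : G, g * x = x * g → g ^ n = 1) {y : G} (hy : orderOf y = r) {g : G} (hg : g * y = y * g) : g ^ n = 1 := by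
  obtain ⟨c, hc1, hc2⟩ := exists_conj hr hsq hx hy
  have h1 : Commute (c * g * c⁻¹) (c * y * c⁻¹) := by
    change c * g * c⁻¹ * (c * y * c⁻¹) = c * y * c⁻¹ * (c * g * c⁻¹)
    calc c * g * c⁻¹ * (c * y * c⁻¹) = c * (g * y) * c⁻¹ := by group
      _ = c * (y * g) * c⁻¹ := by rw [hg]
      _ = _ := by group
  have h2 := h _ (commute_of_mem h1 hc2).eq
  rw [conj_pow] at h2
  have h3 : c * g ^ n = c := by
    calc c * g ^ n = c * g ^ n * c⁻¹ * c := by group
      _ = c := by rw [h2, one_mul]
  exact mul_left_cancel (h3.trans (mul_one c).symm)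

/-! ### the numeric part -/

/-- the divisors of `∏ p ^ a` -/
def divl : List (ℕ × ℕ) → List ℕ
  | [] => [1]
  | x :: l => (List.range (x.2 + 1)).flatMap fun i => (divl l).map fun c => x.1 ^ i * c

theorem mem_divl : ∀ (l : List (ℕ × ℕ)) (c : ℕ), (∀ x ∈ l, x.1.Prime) → c ∣ (l.map fun x => x.1 ^ x.2).prod →
    c ∈ divl l := by
  intro l
  induction l with
  | nil =>
    intro c _ h
    simpa [divl] using h
  | cons x l ih =>
    intro c hp h
    rw [List.map_cons, List.prod_cons, Nat.dvd_mul] at h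
    obtain ⟨y, z, hy, hz, rfl⟩ := h
    obtain ⟨i, hi, rfl⟩ := (Nat.dvd_prime_pow (hp x List.mem_cons_self)).1 hy
    rw [divl, List.mem_flatMap]
    refine ⟨i, List.mem_range.2 (by omega), List.mem_map.2 ⟨z, ih z (fun w hw => hp w (List.mem_cons_of_mem _ hw)) hz, rfl⟩⟩

/-- the numeric check: `c = 1` is the only solution in `L` (`m ∣ e`, `e ≠ 1`) -/
def chkL (N r m : ℕ) (L : List ℕ) : Bool :=
  L.all fun c => (List.range r).all fun e =>
    (e == 0) || (e == 1) || ((r - 1) % e != 0) || (e % m != 0) || (N % (r * c * e) != 0) ||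
      (N / (r * c * e) % r != 1) || (c == 1)

/-- the numeric check for the divisors of `∏ p ^ a` -/
def chkC (N r m : ℕ) (l : List (ℕ × ℕ)) : Bool := chkL N r m (divl l)

theorem of_chkL {N r m : ℕ} {L : List ℕ} (h : chkL N r m L = true) (hr : 1 < r) {c e : ℕ} (hc : c ∈ L)
    (he1 : e ≠ 1) (he : e ∣ r - 1) (hm : m ∣ e) (hd : r * c * e ∣ N) (hN : N / (r * c * e) % r = 1 % r) : c = 1 := by
  unfold chkL at h
  rw [List.all_eq_true] at h
  have h1 := h c hc
  rw [List.all_eq_true] at h1
  have he0 : e ≠ 0 := by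
    rintro rfl
    have := Nat.eq_zero_of_zero_dvd he
    omega
  have hle := Nat.le_of_dvd (by omega) he
  have h2 := h1 e (List.mem_range.2 (by omega))
  rw [Nat.mod_eq_of_lt hr] at hN
  simp only [Bool.or_eq_true, beq_iff_eq, bne_iff_ne] at h2
  rcases h2 with (((((h2 | h2) | h2) | h2) | h2) | h2) | h2
  · exact absurd h2 he0
  · exact absurd h2 he1
  · exact absurd (Nat.mod_eq_zero_of_dvd he) h2
  · exact absurd (Nat.mod_eq_zero_of_dvd hm) h2
  · exact absurd (Nat.mod_eq_zero_of_dvd hd) h2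
  · exact absurd hN h2
  · exact h2

/-- **`|C(x)| = r` from the Sylow congruence.** `m` : a known divisor of `e`; `L` : the possible values of
`|C(x)| / r`. -/
theorem card_of_chkL [Finite G] [IsSimpleGroup G] {x : G} {N r m : ℕ} (hr : r.Prime) (hx : orderOf x = r)
    (hN : Nat.card G = N) (hsq : ¬ r * r ∣ N) (hne : N ≠ r) {L : List ℕ}
    (hcl : ∀ c, Nat.card (centralizer ({x} : Set G)) = r * c → c ∈ L)
    (hm : ∀ e, Nat.card (normalizer (zpowers x : Set G)) = Nat.card (centralizer ({x} : Set G)) * e →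
      (∀ (g : G) (k q a : ℕ), q.Prime → g * x * g⁻¹ = x ^ k → k ^ (q ^ (a + 1)) % r = 1 → k ^ (q ^ a) % r ≠ 1 →
        q ^ (a + 1) ∣ e) → m ∣ e)
    (hchk : chkL N r m L = true) : Nat.card (centralizer ({x} : Set G)) = r := by
  subst hN
  obtain ⟨e, he, h1, h2, h3, h4⟩ := arith hr hx hsq
  obtain ⟨c, hc⟩ := dvd_cent hx
  have hce : c ∈ L := hcl c hc
  rw [hc] at h1 h2
  have he1 : e ≠ 1 := by
    rintro rfl
    exact not_norm_le hr hx hsq hne (by rw [h3, mul_one])
  rw [hc, of_chkL hchk hr.one_lt hce he1 he (hm e h3 h4) h1 h2, mul_one]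

/-- the form with a factorization `l` of a multiple of `|C(x)| / r` -/
theorem card_of_chkC [Finite G] [IsSimpleGroup G] {x : G} {N r m : ℕ} (hr : r.Prime) (hx : orderOf x = r)
    (hN : Nat.card G = N) (hsq : ¬ r * r ∣ N) (hne : N ≠ r) {l : List (ℕ × ℕ)} (hl : ∀ x ∈ l, x.1.Prime)
    (hcl : Nat.card (centralizer ({x} : Set G)) ∣ r * (l.map fun x => x.1 ^ x.2).prod)
    (hm : ∀ e, Nat.card (normalizer (zpowers x : Set G)) = Nat.card (centralizer ({x} : Set G)) * e →
      (∀ (g : G) (k q a : ℕ), q.Prime → g * x * g⁻¹ = x ^ k → k ^ (q ^ (a + 1)) % r = 1 → k ^ (q ^ a) % r ≠ 1 →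
        q ^ (a + 1) ∣ e) → m ∣ e)
    (hchk : chkC N r m l = true) : Nat.card (centralizer ({x} : Set G)) = r :=
  card_of_chkL hr hx hN hsq hne (L := divl l) (fun c hc => mem_divl l c hl (by
    rw [hc] at hcl
    exact Nat.dvd_of_mul_dvd_mul_left hr.pos hcl)) hm hchk

/-- elements of order `r` have centralizers of the same order -/
theorem card_cent_eq [Finite G] {r : ℕ} (hr : r.Prime) (hsq : ¬ r * r ∣ Nat.card G) {x y : G} (hx : orderOf x = r)
    (hy : orderOf y = r) : Nat.card (centralizer ({x} : Set G)) = Nat.card (centralizer ({y} : Set G)) := by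
  obtain ⟨g, h1, h2⟩ := exists_conj hr hsq hx hy
  have h3 : centralizer ({x} : Set G) = (centralizer ({y} : Set G)).map (MulAut.conj g).toMonoidHom := by
    ext c
    rw [mem_centralizer_singleton_iff, Subgroup.mem_map]
    constructor
    · intro hc
      refine ⟨g⁻¹ * c * g, ?_, by simp [mul_assoc]⟩
      rw [mem_centralizer_singleton_iff]
      have h4 : Commute c (g * y * g⁻¹) := commute_of_mem (show Commute c x from hc) h1
      have h5 : c * (g * y * g⁻¹) = g * y * g⁻¹ * c := h4
      calc g⁻¹ * c * g * y = g⁻¹ * (c * (g * y * g⁻¹)) * g := by group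
        _ = g⁻¹ * (g * y * g⁻¹ * c) * g := by rw [h5]
        _ = y * (g⁻¹ * c * g) := by group
    · rintro ⟨d, hd, rfl⟩
      rw [mem_centralizer_singleton_iff] at hd
      have h4 : Commute ((MulAut.conj g).toMonoidHom d) (g * y * g⁻¹) := by
        change g * d * g⁻¹ * (g * y * g⁻¹) = g * y * g⁻¹ * (g * d * g⁻¹)
        calc g * d * g⁻¹ * (g * y * g⁻¹) = g * (d * y) * g⁻¹ := by group
          _ = g * (y * d) * g⁻¹ := by rw [hd]
          _ = _ := by group
      exact (commute_of_mem h4 h2).eq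
  rw [h3]
  exact Nat.card_congr ((centralizer ({y} : Set G)).equivMapOfInjective _ (MulAut.conj g).injective).symm.toEquiv

/-- `|C(x)| = r` if no element of odd prime order `q ≠ r` commutes with `x` -/
theorem card_of_primes [Finite G] {x : G} {r : ℕ} (hr : r.Prime) (hx : orderOf x = r)
    (hsq : ¬ r * r ∣ Nat.card G) (hna : NA r G)
    (h : ∀ q : ℕ, q.Prime → q ≠ 2 → q ≠ r → ∀ g : G, g * x = x * g → orderOf g ≠ q) :
    Nat.card (centralizer ({x} : Set G)) = r := by
  have h1 : ∀ {d : ℕ}, d.Prime → d ∣ Nat.card (centralizer ({x} : Set G)) → d = r := by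
    intro d hd hdvd
    by_contra hne
    have : Fact d.Prime := ⟨hd⟩
    have hd2 : d ≠ 2 := by
      rintro rfl
      exact odd_cent hx hna hdvd
    obtain ⟨g, hg⟩ := exists_prime_orderOf_dvd_card' d hdvd
    exact h d hd hd2 hne g (mem_centralizer_singleton_iff.1 g.2) (by rw [Subgroup.orderOf_coe, hg])
  have h2 := Nat.eq_prime_pow_of_unique_prime_dvd (Nat.card_pos (α := centralizer ({x} : Set G))).ne' h1
  set n := (Nat.card (centralizer ({x} : Set G))).primeFactorsList.length with hn
  have h3 := dvd_cent hx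
  have hn1 : n ≤ 1 := by
    by_contra hn2
    apply hsq
    rw [← pow_two]
    exact (pow_dvd_pow r (by omega)).trans (h2 ▸ Subgroup.card_subgroup_dvd_card _)
  have hn0 : n ≠ 0 := by
    intro h0
    rw [h2, h0, pow_zero] at h3
    exact hr.one_lt.ne' (Nat.dvd_one.1 h3)
  rw [h2, show n = 1 by omega, pow_one]

/-- lifts of elements to a central extension -/
theorem exists_lift {r k : ℕ} (hk : Nat.card (center G) = k) (hrk : r.Coprime k) {x : G ⧸ center G}
    (hx : x ^ r = 1) : ∃ y : G, QuotientGroup.mk' (center G) y = x ∧ y ^ r = 1 := by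
  obtain ⟨y, rfl⟩ := QuotientGroup.mk'_surjective (center G) x
  have h1 : y ^ r ∈ center G := by
    rw [← QuotientGroup.ker_mk' (center G), MonoidHom.mem_ker, map_pow]
    exact hx
  have h2 : (y ^ r) ^ k = 1 := by
    have h3 : (⟨y ^ r, h1⟩ : center G) ^ k = 1 := by rw [← hk]; exact pow_card_eq_one'
    exact congrArg Subtype.val h3
  obtain ⟨m, hm1, hm2⟩ := Nat.chineseRemainder hrk 1 0
  obtain ⟨j, hj⟩ := (Nat.modEq_zero_iff_dvd).1 hm2
  refine ⟨y ^ m, ?_, ?_⟩
  · rw [map_pow]
    have h4 := pow_eq_pow_mod m hx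
    have h5 := pow_eq_pow_mod 1 hx
    rw [h4, hm1, ← h5, pow_one]
  · rw [hj, ← pow_mul, show k * j * r = r * k * j by ring, pow_mul, pow_mul, h2, one_pow]

theorem comm_lift {r k : ℕ} (hk : Nat.card (center G) = k) (hrk : r.Coprime k) {x g : G} (hx : x ^ r = 1)
    (h : QuotientGroup.mk' (center G) g * QuotientGroup.mk' (center G) x =
      QuotientGroup.mk' (center G) x * QuotientGroup.mk' (center G) g) : g * x = x * g := by
  have h4 : g * x * g⁻¹ * x⁻¹ ∈ center G := by
    rw [← QuotientGroup.ker_mk' (center G), MonoidHom.mem_ker, map_mul, map_mul, map_mul, map_inv, map_inv, h]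
    group
  set z := g * x * g⁻¹ * x⁻¹ with hz
  have h5 : g * x * g⁻¹ = z * x := by rw [hz]; group
  have h6 : (g * x * g⁻¹) ^ r = 1 := by rw [conj_pow, hx, mul_one, mul_inv_cancel]
  have h7 : Commute z x := (mem_center_iff.1 h4 x).symm
  rw [h5, h7.mul_pow, hx, mul_one] at h6
  have h8 : z ^ k = 1 := by
    have h3 : (⟨z, h4⟩ : center G) ^ k = 1 := by rw [← hk]; exact pow_card_eq_one'
    exact congrArg Subtype.val h3
  have h9 : z = 1 := by
    have h10 : orderOf z ∣ Nat.gcd r k := Nat.dvd_gcd (orderOf_dvd_of_pow_eq_one h6) (orderOf_dvd_of_pow_eq_one h8)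
    rw [hrk] at h10
    exact orderOf_eq_one_iff.1 (Nat.dvd_one.1 h10)
  rw [h9, one_mul] at h5
  calc g * x = g * x * g⁻¹ * g := by group
    _ = x * g := by rw [h5]

end

end Cfsg.Agent.H547.SelfCent
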